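import Groth.Agent.PureExtend.Step
import Mathlib.Topology.Sober

/-!
# Purity at the complement gives essential surjectivity of restriction
-/

set_option autoImplicit false
set_option backward.isDefEq.respectTransparency false

universe u

open CategoryTheory CategoryTheory.Limits AlgebraicGeometry TopologicalSpace

namespace Groth.Agent.PureExtend

/-- A nonempty closed subset contains a point all whose proper generalisations lie outside it. -/
theorem exists_maximal_point {α : Type u} [TopologicalSpace α] [QuasiSober α] [T0Space α] (Z : Set α)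
    (hZ : IsClosed Z) (hne : Z.Nonempty) : ∃ x ∈ Z, ∀ y : α, y ⤳ x → y ≠ x → y ∉ Z := by
  obtain ⟨z, hz⟩ := hne
  obtain ⟨C, hC, hzC⟩ : ∃ C ∈ irreducibleComponents ↥Z, (⟨z, hz⟩ : Z) ∈ C :=
    ⟨irreducibleComponent _, irreducibleComponent_mem_irreducibleComponents _, mem_irreducibleComponent⟩
  haveI : QuasiSober ↥Z := hZ.isClosedEmbedding_subtypeVal.quasiSober
  obtain ⟨g, hg⟩ := QuasiSober.sober hC.1 (isClosed_of_mem_irreducibleComponents C hC)
  refine ⟨g.1, g.2, fun y hy hne hyZ => hne ?_⟩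
  have hy' : (⟨y, hyZ⟩ : Z) ⤳ g := subtype_specializes_iff _ _ |>.2 hy
  have hle : C ≤ closure {(⟨y, hyZ⟩ : Z)} := by
    rw [← hg.def]
    exact closure_minimal (Set.singleton_subset_iff.2 (specializes_iff_mem_closure.1 hy')) isClosed_closure
  have hCy : closure {(⟨y, hyZ⟩ : Z)} ⊆ C := hC.2 (isIrreducible_singleton.closure) hle
  have : g ⤳ (⟨y, hyZ⟩ : Z) := by
    rw [specializes_iff_mem_closure, hg.def]
    exact hCy (subset_closure rfl)
  exact (hy.antisymm (subtype_specializes_iff _ _ |>.1 this)).eq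

theorem essSurj_restrict {X : Scheme.{u}} [IsNoetherian X] (U : X.Opens)
    (h : ∀ x : X, x ∉ U → FEt.PurityHolds (X.presheaf.stalk x)) : (FEt.restrict U.ι).EssSurj := by
  refine ⟨fun E => ?_⟩
  let P : X.Opens → Prop := fun O => ∃ (hle : U ≤ O) (A : Scheme.{u}) (eA : A ⟶ O.toScheme)
    (q : E.left ⟶ A), FEt.prop eA ∧ IsPullback q E.hom eA (X.homOfLE hle)
  have h0 : P U := ⟨le_rfl, E.left, E.hom, 𝟙 _, E.prop, by
    rw [Scheme.homOfLE_rfl]
    exact IsPullback.of_id_fst⟩
  obtain ⟨O, hO, hmax⟩ := (wellFounded_gt (α := X.Opens)).has_min {O : X.Opens | P O} ⟨U, h0⟩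
  obtain ⟨hle, A, eA, q, hA, hq⟩ := hO
  have htop : O = ⊤ := by
    by_contra hne
    obtain ⟨x, hx, hgen⟩ := exists_maximal_point ((O : Set X)ᶜ) O.isOpen.isClosed_compl (by
      rw [Set.nonempty_compl]
      exact fun h' => hne (Opens.ext h'))
    obtain ⟨O', hle', G, γ, a, hxO', hγ, hpb⟩ := exists_bigger O eA hA x hx
      (fun y hy hyne => not_not.1 (hgen y hy hyne)) (h x fun hxU => hx (hle hxU))
    refine hmax O' ⟨hle.trans hle', G, γ, q ≫ a, hγ, ?_⟩ (lt_of_le_of_ne hle' fun e => hx (e ▸ hxO'))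
    rw [← X.homOfLE_homOfLE hle hle']
    exact hq.paste_horiz hpb
  subst htop
  have hι : IsIso (⊤ : X.Opens).ι := (Scheme.topIso X).isIso_hom
  haveI : IsFinite eA := hA.1
  haveI : Etale eA := hA.2
  refine ⟨MorphismProperty.Over.mk ⊤ (eA ≫ (⊤ : X.Opens).ι) ⟨inferInstance, inferInstance⟩, ⟨?_⟩⟩
  have key : IsPullback q E.hom (eA ≫ (⊤ : X.Opens).ι) U.ι := by
    have := hq.paste_horiz (IsPullback.of_vert_isIso_mono (fst := eA) (snd := 𝟙 A)
      (f := (⊤ : X.Opens).ι) (g := eA ≫ (⊤ : X.Opens).ι) ⟨by simp⟩).flip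
    simpa [Scheme.homOfLE_ι] using this
  exact MorphismProperty.Over.isoMk ((IsPullback.of_hasPullback _ _).isoIsPullback _ _ key)
    (IsPullback.isoIsPullback_hom_snd ..)

end Groth.Agent.PureExtend
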