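import Groth.Agent.PureExtend.Main
import Groth.Agent.PurePair.Depth
import Groth.Agent.PurePair.FlatBC
import Groth.Agent.Purity.Extend

/-!
Extension of finite étale covers across an open of depth two, affine locally and globally.
-/

universe u

open CategoryTheory CategoryTheory.Limits AlgebraicGeometry TopologicalSpace Opposite

set_option autoImplicit false
set_option maxHeartbeats 1000000
set_option backward.isDefEq.respectTransparency false
set_option backward.isDefEq.respectTransparency.types false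
set_option linter.style.haveILetI false

noncomputable section

namespace Groth.Agent.PureExtend

variable {X Y : Scheme.{u}} {U : X.Opens}

theorem app_of_morphismRestrict {Q : ∀ {R S : Type u} [CommRing R] [CommRing S], (R →+* S) → Prop}
    (hQ : RingHom.RespectsIso @Q) (f : Y ⟶ X) (V : X.Opens) (h : Q (f ∣_ V).appTop.hom) : Q (f.app V).hom := by
  rw [morphismRestrict_appTop] at h
  have key : ∀ V' : X.Opens, V' = V → Q (f.app V').hom → Q (f.app V).hom := by rintro _ rfl; exact id
  exact key _ V.ι_image_top ((hQ.cancel_right_isIso (f.app _) _).1 h)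

/-- Sections of the direct image of a cover of a big open, when the cover extends over an affine. -/
theorem finite_etale_app [IsLocallyNoetherian X]
    (hd : ∀ x : X, x ∉ U → (2 : ℕ∞) ≤ LocCoh.depth (X.presheaf.stalk x) (X.presheaf.stalk x))
    (V : X.Opens) (hV : IsAffineOpen V) (h : Y ⟶ U.toScheme) [IsFinite h] [Etale h]
    (hs : (FEt.restrict (V.ι ⁻¹ᵁ U).ι).EssSurj) :
    ((h ≫ U.ι).app V).hom.Finite ∧ ((h ≫ U.ι).app V).hom.Etale := by
  let W := V.ι ⁻¹ᵁ U
  let a : (W : Scheme.{u}) ⟶ U := V.ι ∣_ U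
  have sqa : IsPullback a W.ι U.ι V.ι := isPullback_morphismRestrict V.ι U
  haveI := hs
  let E : FEt.Cat U.toScheme := MorphismProperty.Over.mk ⊤ h ⟨inferInstance, inferInstance⟩
  let F := (FEt.restrict W.ι).objPreimage ((FEt.restrict a).obj E)
  let ε := (FEt.restrict W.ι).objObjPreimageIso ((FEt.restrict a).obj E)
  let Z : Scheme.{u} := F.left
  let π : Z ⟶ (V : Scheme.{u}) := F.hom
  haveI : IsFinite π := F.prop.1
  haveI : Etale π := F.prop.2
  let e : pullback π W.ι ≅ pullback h a :=
    { hom := ε.hom.left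
      inv := ε.inv.left
      hom_inv_id := congrArg (·.left) ε.hom_inv_id
      inv_hom_id := congrArg (·.left) ε.inv_hom_id }
  have he : e.hom ≫ pullback.snd h a = pullback.snd π W.ι := MorphismProperty.Over.w ε.hom
  have big : IsPullback (pullback.fst h a) (pullback.snd h a ≫ W.ι) (h ≫ U.ι) V.ι :=
    (IsPullback.of_hasPullback h a).paste_vert sqa
  let ξ := (isPullback_morphismRestrict (h ≫ U.ι) V).flip.isoIsPullback _ _ big
  have hξ : ξ.hom ≫ pullback.snd h a ≫ W.ι = (h ≫ U.ι) ∣_ V :=
    IsPullback.isoIsPullback_hom_snd _ _ _ _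
  let ρ := (ξ ≪≫ e.symm).hom ≫ pullback.fst π W.ι
  have hρ : ρ ≫ π = (h ≫ U.ι) ∣_ V := by
    rw [← hξ, Category.assoc, pullback.condition, Iso.trans_hom, Category.assoc, Iso.symm_hom, ← he,
      ]
    simp
  have sqρ : IsPullback ρ ((ξ ≪≫ e.symm).hom ≫ pullback.snd π W.ι) π W.ι :=
    (IsPullback.of_hasPullback π W.ι).of_iso (ξ ≪≫ e.symm).symm (Iso.refl _) (Iso.refl _) (Iso.refl _)
      (by simp [ρ]) (by simp) (by simp) (by simp)
  haveI : IsAffine (V : Scheme.{u}) := hV
  haveI : QuasiCompact W.ι := inferInstance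
  have hb : Function.Bijective (ρ.app ⊤) := PurePair.bijective_app_of_flat_baseChange π W.ι
    (PurePair.bijective_app_of_depth W.ι fun x hx => by
      haveI : IsNoetherianRing (X.presheaf.stalk x.1) := inferInstance
      rw [← Purity.depth_eq_of_ringEquiv (V.stalkIso x).commRingCatIsoToRingEquiv]
      exact hd x.1 fun hxU => hx ⟨⟨x, hxU⟩, rfl⟩) sqρ ⊤
  haveI : IsAffine Z := isAffine_of_isAffineHom π
  haveI : IsIso ρ.appTop := (ConcreteCategory.isIso_iff_bijective _).2 hb
  have hfin : π.appTop.hom.Finite := π.finite_appTop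
  have het : π.appTop.hom.Etale := HasRingHomProperty.appTop (P := @Etale) π inferInstance
  refine ⟨app_of_morphismRestrict RingHom.finite_respectsIso _ V ?_,
    app_of_morphismRestrict RingHom.Etale.respectsIso _ V ?_⟩
  · rw [← hρ, Scheme.Hom.comp_appTop]
    exact (RingHom.finite_respectsIso.cancel_right_isIso _ _).2 hfin
  · rw [← hρ, Scheme.Hom.comp_appTop]
    exact (RingHom.Etale.respectsIso.cancel_right_isIso _ _).2 het

/-- Covers of an open of depth two extend when they extend affine locally. -/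
theorem exists_extension_of_local [IsLocallyNoetherian X]
    (hd : ∀ x : X, x ∉ U → (2 : ℕ∞) ≤ LocCoh.depth (X.presheaf.stalk x) (X.presheaf.stalk x))
    (hs : ∀ V : X.Opens, IsAffineOpen V → (FEt.restrict (V.ι ⁻¹ᵁ U).ι).EssSurj) :
    ∀ (h : Y ⟶ U.toScheme) [IsFinite h] [Etale h], ∃ (Z : Scheme.{u}) (ρ : Z ⟶ X), IsFinite ρ ∧ Etale ρ ∧
      ∃ e : Y ≅ pullback ρ U.ι, e.hom ≫ pullback.snd ρ U.ι = h := by
  intro h _ _
  haveI : QuasiCompact U.ι := inferInstance
  set g := h ≫ U.ι
  haveI : QuasiCompact g := inferInstance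
  haveI : QuasiSeparated g := inferInstance
  have key : ∀ V : X.affineOpens,
      (g.fromNormalization.app V.1).hom.Finite ∧ (g.fromNormalization.app V.1).hom.Etale := by
    rintro ⟨V, hV⟩
    obtain ⟨hfin, het⟩ := finite_etale_app hd V hV h (hs V hV)
    letI := (g.app V).hom.toAlgebra
    haveI : Module.Finite Γ(X, V) Γ(Y, g ⁻¹ᵁ V) := hfin
    haveI : Algebra.Etale Γ(X, V) Γ(Y, g ⁻¹ᵁ V) := het
    have htop : integralClosure Γ(X, V) Γ(Y, g ⁻¹ᵁ V) = ⊤ :=
      eq_top_iff.2 fun c _ => Algebra.IsIntegral.isIntegral c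
    let e : integralClosure Γ(X, V) Γ(Y, g ⁻¹ᵁ V) ≃ₐ[Γ(X, V)] Γ(Y, g ⁻¹ᵁ V) :=
      (Subalgebra.equivOfEq _ _ htop).trans Subalgebra.topEquiv
    haveI : Module.Finite Γ(X, V) (integralClosure Γ(X, V) Γ(Y, g ⁻¹ᵁ V)) :=
      Module.Finite.equiv e.symm.toLinearEquiv
    haveI : Algebra.Etale Γ(X, V) (integralClosure Γ(X, V) Γ(Y, g ⁻¹ᵁ V)) := Algebra.Etale.of_equiv e.symm
    rw [g.fromNormalization_app hV]
    exact ⟨(RingHom.finite_respectsIso.cancel_right_isIso _ _).2 (RingHom.finite_algebraMap.2 inferInstance),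
      (RingHom.Etale.respectsIso.cancel_right_isIso _ _).2 (RingHom.etale_algebraMap.2 inferInstance)⟩
  haveI hf : IsFinite g.fromNormalization :=
    (IsZariskiLocalAtTarget.iff_of_iSup_eq_top (P := @IsFinite) _ (iSup_affineOpens_eq_top X)).2 fun V => by
      haveI : IsAffine V.1.toScheme := V.2
      exact HasAffineProperty.iff_of_isAffine.2 ⟨V.2.preimage g.fromNormalization,
        Purity.appTop_morphismRestrict RingHom.finite_respectsIso _ _ (key V).1⟩
  haveI het : Etale g.fromNormalization :=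
    (IsZariskiLocalAtTarget.iff_of_iSup_eq_top (P := @Etale) _ (iSup_affineOpens_eq_top X)).2 fun V => by
      haveI : IsAffine V.1.toScheme := V.2
      haveI : IsAffine (g.fromNormalization ⁻¹ᵁ V.1).toScheme := V.2.preimage g.fromNormalization
      exact HasRingHomProperty.iff_of_isAffine.2
        (Purity.appTop_morphismRestrict RingHom.Etale.respectsIso _ _ (key V).2)
  have sq : IsPullback (𝟙 Y) h g U.ι := by
    refine IsPullback.of_isLimit' ⟨by simp [g]⟩ (PullbackCone.IsLimit.mk _ (fun s => s.fst) (fun s => by simp)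
      (fun s => ?_) (fun s m h₁ _ => by simpa using h₁))
    rw [← cancel_mono U.ι, Category.assoc]
    exact s.condition
  let e₀ : Y ≅ pullback g U.ι := sq.isoPullback
  have he : e₀.hom ≫ pullback.snd g U.ι = h := sq.isoPullback_hom_snd
  haveI : IsFinite (pullback.snd g U.ι) := by
    rw [← MorphismProperty.cancel_left_of_respectsIso @IsFinite e₀.hom, he]; infer_instance
  haveI : Smooth U.ι := inferInstance
  let e : Y ≅ pullback g.fromNormalization U.ι :=
    e₀ ≪≫ asIso (pullback.snd g U.ι).toNormalization ≪≫ asIso (g.normalizationPullback U.ι)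
  refine ⟨g.normalization, g.fromNormalization, hf, het, e, ?_⟩
  simp only [e, Iso.trans_hom, asIso_hom, Category.assoc, Scheme.Hom.normalizationPullback_snd,
    Scheme.Hom.toNormalization_fromNormalization, he]

/-- Covers of an open of depth two extend when they extend affine locally. -/
theorem essSurj_of_local [IsLocallyNoetherian X]
    (hd : ∀ x : X, x ∉ U → (2 : ℕ∞) ≤ LocCoh.depth (X.presheaf.stalk x) (X.presheaf.stalk x))
    (hs : ∀ V : X.Opens, IsAffineOpen V → (FEt.restrict (V.ι ⁻¹ᵁ U).ι).EssSurj) :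
    (FEt.restrict U.ι).EssSurj := ⟨fun E => by
  obtain ⟨Z, ρ, hρ, hρe, e, he⟩ := @exists_extension_of_local _ _ _ _ hd hs E.hom E.prop.1 E.prop.2
  exact ⟨MorphismProperty.Over.mk ⊤ ρ ⟨hρ, hρe⟩, ⟨(MorphismProperty.Over.isoMk (A := E)
    (B := (FEt.restrict U.ι).obj (MorphismProperty.Over.mk ⊤ ρ ⟨hρ, hρe⟩)) e he).symm⟩⟩⟩

/-- Purity at the complement, for locally Noetherian schemes. -/
theorem essSurj_restrict_locallyNoetherian [IsLocallyNoetherian X] (U : X.Opens)
    (hd : ∀ x : X, x ∉ U → (2 : ℕ∞) ≤ LocCoh.depth (X.presheaf.stalk x) (X.presheaf.stalk x))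
    (hp : ∀ (V : X.Opens) (x : (V : Scheme.{u})), x.1 ∉ U → FEt.PurityHolds ((V : Scheme.{u}).presheaf.stalk x)) :
    (FEt.restrict U.ι).EssSurj :=
  essSurj_of_local hd fun V hV => by
    haveI : IsAffine (V : Scheme.{u}) := hV
    haveI : IsLocallyNoetherian (V : Scheme.{u}) := inferInstance
    haveI : IsNoetherian (V : Scheme.{u}) := ⟨⟩
    exact essSurj_restrict (V.ι ⁻¹ᵁ U) fun x hx => hp V x hx

end Groth.Agent.PureExtend
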