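import Groth.Prelude.Def_FEt
import Mathlib.AlgebraicGeometry.Limits
import Mathlib.AlgebraicGeometry.Morphisms.Etale

/-!
# Glueing two finite étale covers of open subschemes
-/

set_option autoImplicit false
set_option backward.isDefEq.respectTransparency false

universe u

open CategoryTheory CategoryTheory.Limits AlgebraicGeometry TopologicalSpace

namespace Groth.Agent.PureExtend

theorem exists_glue {X W V A B : Scheme.{u}} (dW : W ⟶ X) [IsOpenImmersion dW] (dV : V ⟶ X)
    [IsOpenImmersion dV] (eA : A ⟶ W) (eB : B ⟶ V) (hA : FEt.prop eA) (hB : FEt.prop eB)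
    (θ : pullback (eB ≫ dV) dW ≅ pullback (eA ≫ dW) dV)
    (hθ : θ.hom ≫ pullback.fst (eA ≫ dW) dV ≫ eA ≫ dW = pullback.fst (eB ≫ dV) dW ≫ eB ≫ dV) :
    ∃ (G : Scheme.{u}) (γ : G ⟶ (dW.opensRange ⊔ dV.opensRange : X.Opens).toScheme) (a : A ⟶ G)
      (l : W ⟶ (dW.opensRange ⊔ dV.opensRange : X.Opens).toScheme),
      FEt.prop γ ∧ l ≫ (dW.opensRange ⊔ dV.opensRange : X.Opens).ι = dW ∧ IsPullback a eA γ l := by
  set O : X.Opens := dW.opensRange ⊔ dV.opensRange
  let f : pullback (eB ≫ dV) dW ⟶ A := θ.hom ≫ pullback.fst (eA ≫ dW) dV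
  let g : pullback (eB ≫ dV) dW ⟶ B := pullback.fst (eB ≫ dV) dW
  let lW : W ⟶ O.toScheme := IsOpenImmersion.lift O.ι dW
    (by rw [Scheme.Opens.range_ι]; exact fun y hy => Or.inl hy)
  let lV : V ⟶ O.toScheme := IsOpenImmersion.lift O.ι dV
    (by rw [Scheme.Opens.range_ι]; exact fun y hy => Or.inr hy)
  have hlW : lW ≫ O.ι = dW := IsOpenImmersion.lift_fac _ _ _
  have hlV : lV ≫ O.ι = dV := IsOpenImmersion.lift_fac _ _ _
  haveI : IsOpenImmersion lW :=
    haveI : IsOpenImmersion (lW ≫ O.ι) := by rw [hlW]; infer_instance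
    IsOpenImmersion.of_comp lW O.ι
  haveI : IsOpenImmersion lV :=
    haveI : IsOpenImmersion (lV ≫ O.ι) := by rw [hlV]; infer_instance
    IsOpenImmersion.of_comp lV O.ι
  let γ : pushout f g ⟶ O.toScheme := pushout.desc (eA ≫ lW) (eB ≫ lV) (by
    rw [← cancel_mono O.ι]
    simp only [Category.assoc, hlW, hlV, f, g]
    exact hθ)
  have hinl : pushout.inl f g ≫ γ = eA ≫ lW := pushout.inl_desc _ _ _
  have hinr : pushout.inr f g ≫ γ = eB ≫ lV := pushout.inr_desc _ _ _
  haveI : IsOpenImmersion (pushout.inl f g) :=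
    inferInstanceAs (IsOpenImmersion (colimit.ι (span f g) WalkingSpan.left))
  haveI : IsOpenImmersion (pushout.inr f g) :=
    inferInstanceAs (IsOpenImmersion (colimit.ι (span f g) WalkingSpan.right))
  have hsurj : ∀ z : ↥(pushout f g), (∃ a, pushout.inl f g a = z) ∨ ∃ b, pushout.inr f g b = z := by
    intro z
    obtain ⟨i, y, hy⟩ := Scheme.IsLocallyDirected.ι_jointly_surjective (span f g) z
    match i with
    | none =>
      left
      refine ⟨f y, ?_⟩
      rw [← Scheme.Hom.comp_apply]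
      have : f ≫ pushout.inl f g = colimit.ι (span f g) none :=
        colimit.w (span f g) WalkingSpan.Hom.fst
      rw [this]
      exact hy
    | some WalkingPair.left => exact Or.inl ⟨y, hy⟩
    | some WalkingPair.right => exact Or.inr ⟨y, hy⟩
  have sqW : IsPullback (pushout.inl f g) eA γ lW := by
    refine (IsOpenImmersion.isPullback eA (pushout.inl f g) lW γ hinl ?_).flip
    ext z
    refine ⟨?_, ?_⟩
    · rintro ⟨y, hy⟩
      rcases hsurj z with ⟨a, rfl⟩ | ⟨b, rfl⟩
      · exact ⟨a, rfl⟩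
      · have hb : eB b ∈ dV ⁻¹' Set.range dW := by
          refine ⟨y, ?_⟩
          rw [← hlW, ← hlV]
          simp only [Scheme.Hom.comp_apply]
          rw [hy, ← Scheme.Hom.comp_apply (pushout.inr f g) γ, hinr, Scheme.Hom.comp_apply]
        obtain ⟨p, hp⟩ : b ∈ Set.range g := by
          rw [IsOpenImmersion.range_pullbackFst]
          exact hb
        refine ⟨f p, ?_⟩
        rw [← hp, ← Scheme.Hom.comp_apply, ← Scheme.Hom.comp_apply, pushout.condition]
    · rintro ⟨a, rfl⟩
      exact ⟨eA a, by rw [← Scheme.Hom.comp_apply, ← Scheme.Hom.comp_apply, hinl]⟩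
  have sqV : IsPullback (pushout.inr f g) eB γ lV := by
    refine (IsOpenImmersion.isPullback eB (pushout.inr f g) lV γ hinr ?_).flip
    ext z
    refine ⟨?_, ?_⟩
    · rintro ⟨y, hy⟩
      rcases hsurj z with ⟨a, rfl⟩ | ⟨b, rfl⟩
      · have ha : eA a ∈ dW ⁻¹' Set.range dV := by
          refine ⟨y, ?_⟩
          rw [← hlW, ← hlV]
          simp only [Scheme.Hom.comp_apply]
          rw [hy, ← Scheme.Hom.comp_apply (pushout.inl f g) γ, hinl, Scheme.Hom.comp_apply]
        obtain ⟨q, hq⟩ : a ∈ Set.range (pullback.fst (eA ≫ dW) dV) := by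
          rw [IsOpenImmersion.range_pullbackFst]
          exact ha
        refine ⟨g (θ.inv q), ?_⟩
        rw [← hq, ← Scheme.Hom.comp_apply, ← Scheme.Hom.comp_apply, ← Scheme.Hom.comp_apply,
          ← pushout.condition]
        simp [f]
      · exact ⟨b, rfl⟩
    · rintro ⟨b, rfl⟩
      exact ⟨eB b, by rw [← Scheme.Hom.comp_apply, ← Scheme.Hom.comp_apply, hinr]⟩
  have hcov : ⨆ i : Bool, (cond i lW.opensRange lV.opensRange) = ⊤ := by
    refine eq_top_iff.2 fun y _ => Opens.mem_iSup.2 ?_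
    rcases y.2 with ⟨w, hw⟩ | ⟨v, hv⟩
    · exact ⟨true, w, O.ι.isOpenEmbedding.injective (by rw [← Scheme.Hom.comp_apply, hlW]; exact hw)⟩
    · exact ⟨false, v, O.ι.isOpenEmbedding.injective (by rw [← Scheme.Hom.comp_apply, hlV]; exact hv)⟩
  have key : ∀ (P : MorphismProperty Scheme.{u}) [P.RespectsIso] [IsZariskiLocalAtTarget P],
      P eA → P eB → P γ := by
    intro P _ _ h₁ h₂
    refine (IsZariskiLocalAtTarget.iff_of_iSup_eq_top (P := P) _ hcov).2 fun i => ?_
    cases i with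
    | true =>
      refine (P.arrow_mk_iso_iff (morphismRestrictOpensRange γ lW)).2 ?_
      rwa [← sqW.isoPullback_inv_snd, P.cancel_left_of_respectsIso]
    | false =>
      refine (P.arrow_mk_iso_iff (morphismRestrictOpensRange γ lV)).2 ?_
      rwa [← sqV.isoPullback_inv_snd, P.cancel_left_of_respectsIso]
  exact ⟨_, γ, pushout.inl f g, lW, ⟨key @IsFinite hA.1 hB.1, key @Etale hA.2 hB.2⟩, hlW, sqW⟩

end Groth.Agent.PureExtend
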