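import Groth.Agent.PureExtend.Glue
import Groth.Agent.FEtLim.Descend
import Groth.Agent.AmpleNear.LocTower
import Groth.Agent.S4795
import Mathlib.AlgebraicGeometry.Noetherian

/-!
# Extending a finite étale cover across a point where purity holds
-/

set_option autoImplicit false
set_option backward.isDefEq.respectTransparency false

universe u

open CategoryTheory CategoryTheory.Limits AlgebraicGeometry TopologicalSpace

namespace Groth.Agent.PureExtend

variable {X : Scheme.{u}}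

/-- Spreading an extension to a stage of a limit of opens. -/
theorem exists_stage [IsLocallyNoetherian X] {I : Type u} [SmallCategory I] [IsCofiltered I]
    (D : I ⥤ Scheme.{u}) (c : Cone D) (hc : IsLimit c) [∀ (i j : I) (f : i ⟶ j), IsAffineHom (D.map f)]
    [∀ i, CompactSpace (D.obj i)] [∀ i, QuasiSeparatedSpace (D.obj i)]
    (d : ∀ i, D.obj i ⟶ X) (hdo : ∀ i, IsOpenImmersion (d i))
    (hd : ∀ {i j} (φ : j ⟶ i), D.map φ ≫ d i = d j) (s : c.pt ⟶ X) (hdc : ∀ i, c.π.app i ≫ d i = s)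
    (O : X.Opens) {A : Scheme.{u}} (eA : A ⟶ O.toScheme) (hA : FEt.prop eA) (F : FEt.Cat c.pt)
    (θ : pullback (F.hom ≫ s) O.ι ≅ pullback (eA ≫ O.ι) s)
    (hθ : θ.hom ≫ pullback.snd _ _ = pullback.fst _ _ ≫ F.hom) :
    ∃ (j : I) (B : Scheme.{u}) (eB : B ⟶ D.obj j) (_ : FEt.prop eB)
      (e : pullback (eB ≫ d j) O.ι ≅ pullback (eA ≫ O.ι) (d j)),
      e.hom ≫ pullback.fst (eA ≫ O.ι) (d j) ≫ eA ≫ O.ι =
        pullback.fst (eB ≫ d j) O.ι ≫ eB ≫ d j := by
  obtain ⟨i, Vi, ⟨ε⟩⟩ := FEtLim.exists_model D c hc F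
  let vi : Vi.left ⟶ D.obj i := Vi.hom
  haveI : IsFinite vi := Vi.prop.1
  haveI : Etale vi := Vi.prop.2
  haveI : IsFinite eA := hA.1
  haveI : Etale eA := hA.2
  haveI := hdo i
  haveI : QuasiCompact O.ι := inferInstance
  haveI : LocallyOfFinitePresentation O.ι := inferInstance
  -- the two schemes over the stage `i`
  let a₀ := pullback.fst (vi ≫ d i) O.ι ≫ vi
  let b₀ := pullback.snd (eA ≫ O.ι) (d i)
  -- the two schemes over `Spec O_x`
  let η : F.left ≅ pullback vi (c.π.app i) :=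
    { hom := ε.inv.left
      inv := ε.hom.left
      hom_inv_id := congrArg (·.left) ε.inv_hom_id
      inv_hom_id := congrArg (·.left) ε.hom_inv_id }
  let g : F.left ⟶ Vi.left := η.hom ≫ pullback.fst vi (c.π.app i)
  have hη : η.hom ≫ pullback.snd vi (c.π.app i) = F.hom := MorphismProperty.Over.w ε.inv
  have hg : IsPullback g F.hom vi (c.π.app i) :=
    (IsPullback.of_hasPullback vi (c.π.app i)).of_iso η.symm (Iso.refl _) (Iso.refl _) (Iso.refl _)
      (by simp [g]) (by simp [← hη]) (by simp) (by simp)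
  have hgd : g ≫ vi ≫ d i = F.hom ≫ s := by rw [reassoc_of% hg.w, hdc]
  let qX : pullback (F.hom ≫ s) O.ι ⟶ pullback (vi ≫ d i) O.ι :=
    pullback.lift (pullback.fst _ _ ≫ g) (pullback.snd _ _)
      (by rw [Category.assoc, hgd, pullback.condition])
  have hX : IsPullback qX (pullback.fst (F.hom ≫ s) O.ι ≫ F.hom) a₀ (c.π.app i) := by
    have sq : IsPullback qX (pullback.fst (F.hom ≫ s) O.ι) (pullback.fst (vi ≫ d i) O.ι) g := by
      refine IsPullback.of_right (h₁₂ := pullback.snd _ _) (h₂₂ := vi ≫ d i) (v₁₃ := O.ι) ?_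
        (pullback.lift_fst _ _ _) (IsPullback.of_hasPullback (vi ≫ d i) O.ι).flip
      rw [pullback.lift_snd, hgd]
      exact (IsPullback.of_hasPullback (F.hom ≫ s) O.ι).flip
    exact sq.paste_vert hg
  let qY : pullback (eA ≫ O.ι) s ⟶ pullback (eA ≫ O.ι) (d i) :=
    pullback.lift (pullback.fst _ _) (pullback.snd _ _ ≫ c.π.app i)
      (by rw [pullback.condition, Category.assoc, hdc])
  have hY : IsPullback qY (pullback.snd (eA ≫ O.ι) s) b₀ (c.π.app i) := by
    refine IsPullback.of_right (h₁₂ := pullback.fst _ _) (h₂₂ := d i) (v₁₃ := eA ≫ O.ι) ?_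
      (pullback.lift_snd _ _ _) (IsPullback.of_hasPullback (eA ≫ O.ι) (d i))
    rw [pullback.lift_fst, hdc]
    exact (IsPullback.of_hasPullback (eA ≫ O.ι) s)
  obtain ⟨j, φ, Xj, Yj, aj, bj, pX, pY, hXj, hYj, e, he⟩ :=
    (Groth.Agent.S4795.result D c hc i a₀ b₀ _ _ qX qY hX hY).1 ⟨θ, hθ⟩
  haveI := hdo j
  let eB := pullback.snd vi (D.map φ)
  have hB : FEt.prop eB := ⟨inferInstance, inferInstance⟩
  let rX : pullback (eB ≫ d j) O.ι ⟶ pullback (vi ≫ d i) O.ι :=
    pullback.lift (pullback.fst _ _ ≫ pullback.fst vi (D.map φ)) (pullback.snd _ _) (by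
      rw [Category.assoc, pullback.condition_assoc, hd, pullback.condition])
  have hrX : IsPullback rX (pullback.fst (eB ≫ d j) O.ι ≫ eB) a₀ (D.map φ) := by
    have sq : IsPullback rX (pullback.fst (eB ≫ d j) O.ι) (pullback.fst (vi ≫ d i) O.ι)
        (pullback.fst vi (D.map φ)) := by
      refine IsPullback.of_right (h₁₂ := pullback.snd _ _) (h₂₂ := vi ≫ d i) (v₁₃ := O.ι) ?_
        (pullback.lift_fst _ _ _) (IsPullback.of_hasPullback (vi ≫ d i) O.ι).flip
      rw [pullback.lift_snd, pullback.condition_assoc, hd]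
      exact (IsPullback.of_hasPullback (eB ≫ d j) O.ι).flip
    exact sq.paste_vert (IsPullback.of_hasPullback vi (D.map φ))
  let rY : pullback (eA ≫ O.ι) (d j) ⟶ pullback (eA ≫ O.ι) (d i) :=
    pullback.lift (pullback.fst _ _) (pullback.snd _ _ ≫ D.map φ)
      (by rw [pullback.condition, Category.assoc, hd])
  have hrY : IsPullback rY (pullback.snd (eA ≫ O.ι) (d j)) b₀ (D.map φ) := by
    refine IsPullback.of_right (h₁₂ := pullback.fst _ _) (h₂₂ := d i) (v₁₃ := eA ≫ O.ι) ?_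
      (pullback.lift_snd _ _ _) (IsPullback.of_hasPullback (eA ≫ O.ι) (d i))
    rw [pullback.lift_fst, hd]
    exact IsPullback.of_hasPullback (eA ≫ O.ι) (d j)
  refine ⟨j, _, eB, hB, hrX.isoIsPullback _ _ hXj ≪≫ e ≪≫ hYj.isoIsPullback _ _ hrY, ?_⟩
  rw [pullback.condition, Iso.trans_hom, Iso.trans_hom, Category.assoc, Category.assoc,
      IsPullback.isoIsPullback_hom_snd_assoc, reassoc_of% he, IsPullback.isoIsPullback_hom_snd_assoc,
      Category.assoc]

/-- Spreading an extension over `Spec O_x` to an open neighbourhood of `x`. -/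
theorem exists_nhd [IsNoetherian X] (x : X) (O : X.Opens) {A : Scheme.{u}} (eA : A ⟶ O.toScheme)
    (hA : FEt.prop eA) (F : FEt.Cat (Spec (X.presheaf.stalk x)))
    (θ : pullback (F.hom ≫ X.fromSpecStalk x) O.ι ≅ pullback (eA ≫ O.ι) (X.fromSpecStalk x))
    (hθ : θ.hom ≫ pullback.snd _ _ = pullback.fst _ _ ≫ F.hom) :
    ∃ (V : Scheme.{u}) (d : V ⟶ X) (_ : IsOpenImmersion d) (B : Scheme.{u}) (eB : B ⟶ V)
      (_ : FEt.prop eB) (e : pullback (eB ≫ d) O.ι ≅ pullback (eA ≫ O.ι) d),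
      x ∈ d.opensRange ∧
        e.hom ≫ pullback.fst (eA ≫ O.ι) d ≫ eA ≫ O.ι = pullback.fst (eB ≫ d) O.ι ≫ eB ≫ d := by
  obtain ⟨V₀, hV, hxV, -⟩ := exists_isAffineOpen_mem_and_subset (show x ∈ (⊤ : X.Opens) from trivial)
  letI := X.presheaf.algebra_section_stalk (⟨x, hxV⟩ : V₀)
  let p : Ideal Γ(X, V₀) := (hV.primeIdealOf ⟨x, hxV⟩).asIdeal
  haveI : p.IsPrime := (hV.primeIdealOf ⟨x, hxV⟩).2
  haveI : IsLocalization.AtPrime (X.presheaf.stalk x) p := hV.isLocalization_stalk ⟨x, hxV⟩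
  let N := p.primeCompl
  let ρ : CommRingCat.of (Localization N) ≅ X.presheaf.stalk x :=
    (IsLocalization.algEquiv N (Localization N) (X.presheaf.stalk x)).toRingEquiv.toCommRingCatIso
  haveI : IsIso (Spec.map ρ.hom) := inferInstance
  let D := AmpleNear.locDiagram N
  let c : Cone D := (AmpleNear.locCone N).extend (Spec.map ρ.hom)
  let hc : IsLimit c := IsLimit.extendIso (Spec.map ρ.hom) (AmpleNear.locIsLimit N)
  haveI : ∀ i, CompactSpace ↥(D.obj i) := fun i => inferInstance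
  haveI : ∀ i, QuasiSeparatedSpace ↥(D.obj i) := fun i => inferInstance
  let d : ∀ i, D.obj i ⟶ X := fun i =>
    Spec.map (CommRingCat.ofHom (algebraMap Γ(X, V₀) (Localization i.unop.1))) ≫ hV.fromSpec
  have hd : ∀ {i j} (φ : j ⟶ i), D.map φ ≫ d i = d j := by
    intro i j φ
    show Spec.map (CommRingCat.ofHom (AmpleNear.locMap (leOfHom φ.unop : i.unop.1 ≤ j.unop.1))) ≫ Spec.map _ ≫ _ = Spec.map _ ≫ _
    rw [← Spec.map_comp_assoc, ← CommRingCat.ofHom_comp]
    congr 3
    exact RingHom.ext fun a => AmpleNear.locMap_algebraMap (leOfHom φ.unop : i.unop.1 ≤ j.unop.1) a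
  have hdo : ∀ i, IsOpenImmersion (d i) := fun i => by
    obtain ⟨a, -, ha⟩ := AmpleNear.exists_away N i.unop
    haveI := ha
    haveI : IsOpenImmersion (Spec.map (CommRingCat.ofHom (algebraMap Γ(X, V₀) (Localization i.unop.1)))) :=
      IsOpenImmersion.of_isLocalization a
    infer_instance
  have hdc : ∀ i, c.π.app i ≫ d i = X.fromSpecStalk x := by
    intro i
    show (Spec.map ρ.hom ≫ Spec.map (CommRingCat.ofHom (AmpleNear.locMap i.unop.2.1))) ≫ Spec.map _ ≫ _ = _
    rw [← hV.fromSpecStalk_eq_fromSpecStalk hxV, IsAffineOpen.fromSpecStalk, Category.assoc,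
      ← Spec.map_comp_assoc, ← Spec.map_comp_assoc]
    congr 2
    refine CommRingCat.hom_ext (RingHom.ext fun a => ?_)
    show (IsLocalization.algEquiv N (Localization N) (X.presheaf.stalk x))
      (AmpleNear.locMap i.unop.2.1 (algebraMap Γ(X, V₀) (Localization i.unop.1) a)) = _
    rw [AmpleNear.locMap_algebraMap, AlgEquiv.commutes]
    rfl
  obtain ⟨j, B, eB, hB, e, he⟩ :=
    exists_stage D c hc d hdo (fun φ => hd φ) (X.fromSpecStalk x) hdc O eA hA F θ hθ
  refine ⟨D.obj j, d j, hdo j, B, eB, hB, e, ⟨c.π.app j (IsLocalRing.closedPoint _), ?_⟩, he⟩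
  erw [← Scheme.Hom.comp_apply, hdc]
  exact Scheme.fromSpecStalk_closedPoint

/-- One step of the extension. -/
theorem exists_bigger [IsNoetherian X] (O : X.Opens) {A : Scheme.{u}} (eA : A ⟶ O.toScheme)
    (hA : FEt.prop eA) (x : X) (hx : x ∉ O) (hgen : ∀ y : X, y ⤳ x → y ≠ x → y ∈ O)
    (hp : FEt.PurityHolds (X.presheaf.stalk x)) :
    ∃ (O' : X.Opens) (hle : O ≤ O') (G : Scheme.{u}) (γ : G ⟶ O'.toScheme) (a : A ⟶ G),
      x ∈ O' ∧ FEt.prop γ ∧ IsPullback a eA γ (X.homOfLE hle) := by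
  let s := X.fromSpecStalk x
  let ι := (FEt.puncturedSpec (X.presheaf.stalk x)).ι
  have hpre : s ⁻¹' (O : Set X) = ({IsLocalRing.closedPoint (X.presheaf.stalk x)}ᶜ : Set _) := by
    ext y
    constructor
    · intro hy (h : y = _)
      apply hx
      rw [← Scheme.fromSpecStalk_closedPoint (x := x), ← h]
      exact hy
    · intro hy
      refine hgen _ (Set.ext_iff.1 Scheme.range_fromSpecStalk _ |>.1 ⟨y, rfl⟩) fun h => hy ?_
      exact s.isEmbedding.injective (h.trans Scheme.fromSpecStalk_closedPoint.symm)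
  have hsub : Set.range (ι ≫ s) ⊆ Set.range O.ι := by
    rintro _ ⟨y, rfl⟩
    rw [Scheme.Opens.range_ι]
    exact hpre.ge y.2
  let sO := IsOpenImmersion.lift O.ι (ι ≫ s) hsub
  have hsO : sO ≫ O.ι = ι ≫ s := IsOpenImmersion.lift_fac _ _ _
  have sq : IsPullback ι sO s O.ι := by
    refine (IsOpenImmersion.isPullback sO ι O.ι s hsO.symm ?_).flip
    rw [Scheme.Opens.opensRange_ι]
    ext y
    show s y ∈ O ↔ y ∈ Set.range ι
    rw [Scheme.Opens.range_ι]
    exact Set.ext_iff.1 hpre y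
  haveI : (FEt.restrict ι).EssSurj := hp
  let E := (FEt.restrict sO).obj (MorphismProperty.Over.mk ⊤ eA hA)
  let F := (FEt.restrict ι).objPreimage E
  let ε := (FEt.restrict ι).objObjPreimageIso E
  let η : pullback F.hom ι ≅ pullback eA sO :=
    { hom := ε.hom.left
      inv := ε.inv.left
      hom_inv_id := congrArg (·.left) ε.hom_inv_id
      inv_hom_id := congrArg (·.left) ε.inv_hom_id }
  have hη : η.hom ≫ pullback.snd eA sO = pullback.snd F.hom ι := MorphismProperty.Over.w ε.hom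
  have p₁ : IsPullback (pullback.fst F.hom ι) (pullback.snd F.hom ι ≫ sO) (F.hom ≫ s) O.ι :=
    (IsPullback.of_hasPullback F.hom ι).paste_vert sq
  have p₂ : IsPullback (pullback.fst eA sO) (pullback.snd eA sO ≫ ι) (eA ≫ O.ι) s :=
    (IsPullback.of_hasPullback eA sO).paste_vert sq.flip
  let θ : pullback (F.hom ≫ s) O.ι ≅ pullback (eA ≫ O.ι) s :=
    (IsPullback.of_hasPullback _ _).isoIsPullback _ _ p₁ ≪≫ η ≪≫
      p₂.isoIsPullback _ _ (IsPullback.of_hasPullback _ _)
  have hθ : θ.hom ≫ pullback.snd _ _ = pullback.fst _ _ ≫ F.hom := by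
    simp only [θ, Iso.trans_hom, Category.assoc, IsPullback.isoIsPullback_hom_snd]
    erw [IsPullback.isoIsPullback_hom_snd]
    erw [reassoc_of% hη, ← pullback.condition, IsPullback.isoIsPullback_hom_fst_assoc]
  obtain ⟨V, d, hd, B, eB, hB, e, hxd, he⟩ := exists_nhd x O eA hA F θ hθ
  haveI := hd
  obtain ⟨G, γ, a, l, hγ, hl, hpb⟩ := exists_glue O.ι d eA eB hA hB e he
  refine ⟨_, le_sup_left.trans' (Scheme.Opens.opensRange_ι O).ge, G, γ, a, Or.inr hxd, hγ, ?_⟩
  convert hpb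
  rw [← cancel_mono (Scheme.Opens.ι _), Scheme.homOfLE_ι, hl]

end Groth.Agent.PureExtend
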